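import Groth.Agent.FpqcMod.Hom
import Groth.Agent.ModStLib.FibGrpd

/-!
# Comparison maps and their transposes
-/

universe u

set_option autoImplicit false
set_option backward.isDefEq.respectTransparency false
set_option backward.isDefEq.respectTransparency.types false
set_option linter.style.haveILetI false

open CategoryTheory CategoryTheory.Limits AlgebraicGeometry TopologicalSpace Opposite

namespace Groth.Agent.ModStLib.Desc

open Groth.Agent.EtLC12.AssocUnit Groth.Agent.QCoh Groth.Agent.FpqcMod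

variable {X Y Z : Scheme.{u}}

/-- The transpose of a comparison map. -/
noncomputable def adjC (g : Y ⟶ Z) {N : Z.Modules} {M : Y.Modules}
    (c : N ⟶ (Scheme.Modules.pushforward g).obj M) : (Scheme.Modules.pullback g).obj N ⟶ M :=
  ((Scheme.Modules.pullbackPushforwardAdjunction g).homEquiv _ _).symm c

lemma adjC_usec (g : Y ⟶ Z) {N : Z.Modules} {M : Y.Modules} (c : N ⟶ (Scheme.Modules.pushforward g).obj M)
    (O : Z.Opens) (x : Γ(N, O)) : (adjC g c).app (g ⁻¹ᵁ O) (usec g N O x) = c.app O x := by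
  have h := ((Scheme.Modules.pullbackPushforwardAdjunction g).homEquiv _ _).apply_symm_apply c
  rw [Adjunction.homEquiv_unit] at h
  exact congrArg (fun t : N ⟶ (Scheme.Modules.pushforward g).obj M => t.app O x) h

lemma adjC_pullSec (g : Y ⟶ Z) {N : Z.Modules} {M : Y.Modules} (c : N ⟶ (Scheme.Modules.pushforward g).obj M)
    {O : Z.Opens} {U : Y.Opens} (hle : U ≤ g ⁻¹ᵁ O) (x : Γ(N, O)) :
    (adjC g c).app U (pullSec g N hle x) = M.presheaf.map (homOfLE hle).op (c.app O x) := by
  refine (map_app_comm (adjC g c) (homOfLE hle) (usec g N O x)).trans ?_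
  rw [adjC_usec]

theorem isIso_adjC (g : Y ⟶ Z) {N : Z.Modules} {M : Y.Modules} {c : N ⟶ (Scheme.Modules.pushforward g).obj M}
    (hc : ModSt.IsCart g c) : IsIso (adjC g c) := by
  let adj := Scheme.Modules.pullbackPushforwardAdjunction g
  have h : ∀ M', Function.Bijective (fun v : M ⟶ M' => adjC g c ≫ v) := fun M' => by
    have e : (fun v : M ⟶ M' => adjC g c ≫ v) =
        (adj.homEquiv N M').symm ∘ fun v : M ⟶ M' => c ≫ (Scheme.Modules.pushforward g).map v :=
      funext fun v => (adj.homEquiv_naturality_right_symm c v).symm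
    rw [e]
    exact (adj.homEquiv N M').symm.bijective.comp (hc M')
  obtain ⟨d, hd⟩ := (h _).2 (𝟙 _)
  refine ⟨d, hd, (h _).1 ?_⟩
  show adjC g c ≫ d ≫ adjC g c = adjC g c ≫ 𝟙 _
  rw [← Category.assoc, show adjC g c ≫ d = 𝟙 _ from hd, Category.id_comp, Category.comp_id]

theorem isCart_homEquiv (g : Y ⟶ Z) {N : Z.Modules} {M : Y.Modules}
    (ψ : (Scheme.Modules.pullback g).obj N ⟶ M) [IsIso ψ] :
    ModSt.IsCart g ((Scheme.Modules.pullbackPushforwardAdjunction g).homEquiv N M ψ) := by
  intro M'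
  let adj := Scheme.Modules.pullbackPushforwardAdjunction g
  have e : (fun v : M ⟶ M' => adj.homEquiv N M ψ ≫ (Scheme.Modules.pushforward g).map v) =
      adj.homEquiv N M' ∘ fun v : M ⟶ M' => ψ ≫ v :=
    funext fun v => (adj.homEquiv_naturality_right ψ v).symm
  rw [e]
  exact (adj.homEquiv N M').bijective.comp
    ⟨fun v w h => (cancel_epi ψ).1 h, fun v => ⟨inv ψ ≫ v, IsIso.hom_inv_id_assoc ψ v⟩⟩

lemma adjC_homEquiv (g : Y ⟶ Z) {N : Z.Modules} {M : Y.Modules}
    (ψ : (Scheme.Modules.pullback g).obj N ⟶ M) :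
    adjC g ((Scheme.Modules.pullbackPushforwardAdjunction g).homEquiv N M ψ) = ψ :=
  ((Scheme.Modules.pullbackPushforwardAdjunction g).homEquiv N M).symm_apply_apply ψ

/-- Morphisms out of an inverse image are determined on pulled back sections. -/
theorem hom_ext_usec (g : Y ⟶ Z) {N : Z.Modules} {M : Y.Modules}
    {φ ψ : (Scheme.Modules.pullback g).obj N ⟶ M}
    (h : ∀ (O : Z.Opens) (x : Γ(N, O)), φ.app _ (usec g N O x) = ψ.app _ (usec g N O x)) : φ = ψ := by
  refine ((Scheme.Modules.pullbackPushforwardAdjunction g).homEquiv _ _).injective ?_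
  rw [Adjunction.homEquiv_unit, Adjunction.homEquiv_unit]
  refine Scheme.Modules.hom_ext _ _ fun O => ?_
  ext x
  exact h O x

lemma usec_eq_pullSec (g : Y ⟶ Z) (N : Z.Modules) (O : Z.Opens) (x : Γ(N, O)) :
    usec g N O x = pullSec g N (le_refl (g ⁻¹ᵁ O)) x := (map_id' _ _).symm

lemma τ_inv_pullSec {N : Z.Modules} (a : Y ⟶ X) (f : X ⟶ Z) (q : Y ⟶ Z) (h : a ≫ f = q) {W : X.Opens}
    {U : Y.Opens} {O : Z.Opens} (hle : U ≤ a ⁻¹ᵁ W) (hW : W ≤ f ⁻¹ᵁ O) (hU : U ≤ q ⁻¹ᵁ O) (x : Γ(N, O)) :
    (τ N a f q h).inv.app U (pullSec q N hU x) = pullSec a _ hle (pullSec f N hW x) := by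
  have h2 := T_pullSec N a f q h hle hW x
  rw [← h2, T]
  exact congrArg (fun t : (Scheme.Modules.pullback a).obj ((Scheme.Modules.pullback f).obj N) ⟶ _ =>
    t.app U (pullSec a _ hle (pullSec f N hW x))) (τ N a f q h).hom_inv_id

lemma iso_app_inv {M M' : Y.Modules} (e : M ≅ M') (U : Y.Opens) {x : Γ(M, U)} {y : Γ(M', U)}
    (h : e.hom.app U x = y) : e.inv.app U y = x := by
  rw [← h]
  exact congrArg (fun t : M ⟶ M => t.app U x) e.hom_inv_id

/-- Pulling back along an identity is injective on sections. -/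
theorem pullSec_id_injective (M : Y.Modules) (g : Y ⟶ Y) (hg : g = 𝟙 Y) {O : Y.Opens} (hle : O ≤ g ⁻¹ᵁ O) :
    Function.Injective (pullSec g M hle) := by
  subst hg
  haveI : IsIso (homOfLE hle).op := ⟨(homOfLE (le_refl O)).op, Subsingleton.elim _ _, Subsingleton.elim _ _⟩
  exact ((ConcreteCategory.bijective_of_isIso
    (((Scheme.Modules.pullback (𝟙 Y)).obj M).presheaf.map (homOfLE hle).op)).comp
      (bijective_usec_of_isOpenImmersion (𝟙 Y) M O (fun p _ => ⟨p, rfl⟩))).1

/-- A family version: inverse images along a jointly surjective flat family reflect isomorphisms. -/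
theorem isIso_of_family {ι : Type u} {Xs : ι → Scheme.{u}} (f : ∀ i, Xs i ⟶ Z)
    (hf : Presieve.ofArrows Xs f ∈ Scheme.fpqcPrecoverage Z) {M N : Z.Modules} (hM : Coh.IsQCoh M)
    (hN : Coh.IsQCoh N) (ψ : M ⟶ N) (h : ∀ i, IsIso ((Scheme.Modules.pullback (f i)).map ψ)) : IsIso ψ := by
  haveI : IsIso ((Desc.modPF.{u}.toDescentData f).map ψ) :=
    ⟨{ hom := fun i => @inv _ _ _ _ ((Scheme.Modules.pullback (f i)).map ψ) (h i)
       comm := fun W q i j a b ha hb => by
        haveI := h i
        haveI := h j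
        have hc := ((Desc.modPF.{u}.toDescentData f).map ψ).comm q a b ha hb
        change (Scheme.Modules.pullback a).map ((Scheme.Modules.pullback (f i)).map ψ) ≫ _ =
          _ ≫ (Scheme.Modules.pullback b).map ((Scheme.Modules.pullback (f j)).map ψ) at hc
        show (Scheme.Modules.pullback a).map (inv ((Scheme.Modules.pullback (f i)).map ψ)) ≫ _ =
          _ ≫ (Scheme.Modules.pullback b).map (inv ((Scheme.Modules.pullback (f j)).map ψ))
        rw [← cancel_epi ((Scheme.Modules.pullback a).map ((Scheme.Modules.pullback (f i)).map ψ)),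
          ← Functor.map_comp_assoc, IsIso.hom_inv_id, CategoryTheory.Functor.map_id, Category.id_comp]
        erw [reassoc_of% hc]
        rw [← Functor.map_comp, IsIso.hom_inv_id, CategoryTheory.Functor.map_id, Category.comp_id] },
      Pseudofunctor.DescentData.hom_ext fun i =>
        @IsIso.hom_inv_id _ _ _ _ ((Scheme.Modules.pullback (f i)).map ψ) (h i),
      Pseudofunctor.DescentData.hom_ext fun i =>
        @IsIso.inv_hom_id _ _ _ _ ((Scheme.Modules.pullback (f i)).map ψ) (h i)⟩
  obtain ⟨d, hd⟩ := map_surjective N f hf M hM (inv ((Desc.modPF.{u}.toDescentData f).map ψ))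
  refine ⟨d, map_injective M f hf M hM ?_, map_injective N f hf N hN ?_⟩
  · rw [Functor.map_comp, hd, IsIso.hom_inv_id, CategoryTheory.Functor.map_id]
  · rw [Functor.map_comp, hd, IsIso.inv_hom_id, CategoryTheory.Functor.map_id]

end Groth.Agent.ModStLib.Desc
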