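import Groth.Agent.ModStLib.Desc.Datum
import Groth.Agent.AlgSpDec.SubsheafCover
import Groth.Agent.FlatBC5.Basic

/-!
# Covering families of a sieve and morphisms agreeing on them
-/

universe u

set_option autoImplicit false
set_option backward.isDefEq.respectTransparency false
set_option backward.isDefEq.respectTransparency.types false
set_option linter.style.haveILetI false

open CategoryTheory CategoryTheory.Functor CategoryTheory.Limits AlgebraicGeometry TopologicalSpace Opposite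

namespace Groth.Agent.ModStLib.Desc

open Groth.Agent.EtLC12.AssocUnit Groth.Agent.QCoh Groth.Agent.FpqcMod

variable {X S : Scheme.{u}} {f : X ⟶ S}

/-- A covering sieve for the fppf topology contains a small fpqc covering family. -/
theorem exists_family {U : Over S} {R : Sieve U} (hR : R ∈ QuotSh.J Scheme.fppfPrecoverage S U) :
    ∃ (V : U.left → Over S) (φ : ∀ i, V i ⟶ U), (∀ i, R (φ i)) ∧
      Presieve.ofArrows (fun i => (V i).left) (fun i => (φ i).left) ∈ Scheme.fpqcPrecoverage U.left := by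
  obtain ⟨V, φ, hφ, hp, hs⟩ := Groth.Agent.AlgSpDec.SubCover.exists_flat_lfp_family (T := U) (R := R) hR
  refine ⟨V, φ, hφ, Scheme.fppfPrecoverage_le_fpqcPrecoverage _ ?_⟩
  rw [Scheme.fppfPrecoverage, Scheme.ofArrows_mem_precoverage_iff]
  exact ⟨fun x => ⟨x, hs x⟩, hp⟩

/-- Sections in the images of two equal morphisms agree. -/
lemma c_congr_res {A B : ModSt.Obj f} {φ ψ : A ⟶ B} (h : φ = ψ) {W : B.XT.Opens} {V : A.XT.Opens}
    (hφ : V ≤ φ.top ⁻¹ᵁ W) (hψ : V ≤ ψ.top ⁻¹ᵁ W) (n : Γ(B.E, W)) :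
    A.E.presheaf.map (homOfLE hφ).op (φ.c.app W n) = A.E.presheaf.map (homOfLE hψ).op (ψ.c.app W n) := by
  subst h
  rfl

/-- The comparison of a morphism commutes with restriction. -/
lemma c_res {A B : ModSt.Obj f} (φ : A ⟶ B) {W W' : B.XT.Opens} (i : W' ⟶ W) (n : Γ(B.E, W)) :
    φ.c.app W' (B.E.presheaf.map i.op n) = A.E.presheaf.map ((Opens.map φ.top.base).map i).op (φ.c.app W n) :=
  map_app_comm φ.c i n

/-- A morphism composed with a restricted comparison. -/
lemma comp_c_res {A B C : ModSt.Obj f} (φ : A ⟶ B) (ψ : B ⟶ C) {W : C.XT.Opens} {W' : B.XT.Opens}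
    {V : A.XT.Opens} (hW : W' ≤ ψ.top ⁻¹ᵁ W) (hV : V ≤ φ.top ⁻¹ᵁ W') (hV' : V ≤ (φ ≫ ψ).top ⁻¹ᵁ W) (n : Γ(C.E, W)) :
    A.E.presheaf.map (homOfLE hV).op (φ.c.app W' (B.E.presheaf.map (homOfLE hW).op (ψ.c.app W n))) =
      A.E.presheaf.map (homOfLE hV').op ((φ ≫ ψ).c.app W n) := by
  rw [c_res, ModSt.Obj.comp_c_app]
  exact map_map _ _ _

lemma top_eq {A B : ModSt.Obj f} {χ₁ χ₂ : A ⟶ B} (hb : χ₁.base = χ₂.base) : χ₁.top = χ₂.top :=
  B.isPullback.hom_ext (χ₁.w_p.trans χ₂.w_p.symm) (by rw [χ₁.w_q, χ₂.w_q, hb])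

/-- Extensionality of morphisms on sections. -/
theorem hom_ext_sec {A B : ModSt.Obj f} {χ₁ χ₂ : A ⟶ B} (hb : χ₁.base = χ₂.base)
    (hc : ∀ (W : B.XT.Opens) (n : Γ(B.E, W)) (V : A.XT.Opens) (h1 : V ≤ χ₁.top ⁻¹ᵁ W)
      (h2 : V ≤ χ₂.top ⁻¹ᵁ W),
      A.E.presheaf.map (homOfLE h1).op (χ₁.c.app W n) = A.E.presheaf.map (homOfLE h2).op (χ₂.c.app W n)) :
    χ₁ = χ₂ := by
  have e := top_eq hb
  obtain ⟨b₁, t₁, wp₁, wq₁, c₁, hc₁⟩ := χ₁
  obtain ⟨b₂, t₂, wp₂, wq₂, c₂, hc₂⟩ := χ₂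
  cases hb
  cases e
  have : c₁ = c₂ := by
    refine Scheme.Modules.hom_ext _ _ fun W => ?_
    ext n
    have h := hc W n (t₁ ⁻¹ᵁ W) le_rfl le_rfl
    exact (map_id' (homOfLE (le_refl (t₁ ⁻¹ᵁ W))) _).symm.trans (h.trans (map_id' (homOfLE (le_refl (t₁ ⁻¹ᵁ W))) _))
  cases this
  rfl

/-- Morphisms agreeing after a jointly covering family are equal. -/
theorem hom_ext_cover {A A' : ModSt.Obj f} (hA : Coh.IsQCoh A.E) {I : Type u} (B : I → ModSt.Obj f)
    (k : ∀ i, B i ⟶ A)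
    (hk : Presieve.ofArrows (fun i => (B i).XT) (fun i => (k i).top) ∈ Scheme.fpqcPrecoverage A.XT)
    {χ₁ χ₂ : A ⟶ A'} (hb : χ₁.base = χ₂.base) (h : ∀ i, k i ≫ χ₁ = k i ≫ χ₂) : χ₁ = χ₂ := by
  refine hom_ext_sec hb fun W n V h1 h2 => ?_
  refine sep' (fun i => (k i).top) hk A.E hA _ _ fun i => ?_
  haveI := isIso_adjC _ (k i).cart
  apply (ConcreteCategory.bijective_of_isIso ((adjC _ (k i).c).app ((k i).top ⁻¹ᵁ V))).1
  rw [adjC_usec, adjC_usec, c_res, c_res]
  have e := c_congr_res (h i) (V := (k i).top ⁻¹ᵁ V) (W := W) ((Opens.map (k i).top.base).map (homOfLE h1)).le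
    ((Opens.map (k i).top.base).map (homOfLE h2)).le n
  rw [ModSt.Obj.comp_c_app, ModSt.Obj.comp_c_app] at e
  exact e

variable {U : Over S} {R : Sieve U} {P : ModSt.Obj f → Prop}
  (H : Stk.sieveCat R ⥤ᵇ AlgSt.fullSub (ModSt.Fam f) P)

/-- A covering family of a member by members that factor through given members. -/
theorem exists_refinement {I : Type u} (d : I → (Stk.sieveCat R).obj)
    (hd : Presieve.ofArrows (fun i => (d i).obj.left.left) (fun i => (d i).obj.hom.left) ∈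
      Scheme.fpqcPrecoverage U.left)
    {XU : Scheme.{u}} {p : XU ⟶ X} {q : XU ⟶ U.left} (hsq : IsPullback p q f U.hom)
    (a : (Stk.sieveCat R).obj) :
    ∃ (b : I → (Stk.sieveCat R).obj) (k : ∀ i, b i ⟶ a) (_ : ∀ i, b i ⟶ d i),
      Presieve.ofArrows (fun i => (Ho H (b i)).XT) (fun i => (Hm H (k i)).top) ∈
        Scheme.fpqcPrecoverage (Ho H a).XT := by
  let w : ∀ i, (Over.mk (pullback.fst a.obj.hom.left (d i).obj.hom.left ≫ a.obj.left.hom) : Over S) ⟶ a.obj.left :=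
    fun i => Over.homMk (pullback.fst _ _) rfl
  let b : I → (Stk.sieveCat R).obj := fun i => ⟨Over.mk (w i ≫ a.obj.hom), R.downward_closed a.property (w i)⟩
  let k : ∀ i, b i ⟶ a := fun i => ObjectProperty.homMk (Over.homMk (w i))
  refine ⟨b, k, fun i => ObjectProperty.homMk (Over.homMk (Over.homMk (pullback.snd _ _) ?_)
    (Over.OverMorphism.ext ?_)), ?_⟩
  · show pullback.snd a.obj.hom.left (d i).obj.hom.left ≫ (d i).obj.left.hom =
      pullback.fst a.obj.hom.left (d i).obj.hom.left ≫ a.obj.left.hom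
    rw [← Over.w (d i).obj.hom, ← Over.w a.obj.hom, pullback.condition_assoc]
  · exact pullback.condition.symm
  have hb : Presieve.ofArrows (fun i => (b i).obj.left.left)
      (fun i => (k i).hom.left.left) ∈ Scheme.fpqcPrecoverage a.obj.left.left :=
    Precoverage.mem_coverings_of_isPullback _ hd a.obj.hom.left _ (fun i => pullback.snd _ _)
      fun i => IsPullback.of_hasPullback _ _
  refine Precoverage.mem_coverings_of_isPullback _ hb (bq H a) _ (fun i => bq H (b i)) fun i => ?_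
  refine IsPullback.of_right ?_ (top_bq H (k i)) (isPullback_jm H hsq a).flip.flip
  rw [top_jm, ← Over.comp_left, Over.w (k i).hom]
  exact isPullback_jm H hsq (b i)

/-- The family of projections of a covering family of members is covering. -/
theorem jm_mem {I : Type u} (d : I → (Stk.sieveCat R).obj)
    (hd : Presieve.ofArrows (fun i => (d i).obj.left.left) (fun i => (d i).obj.hom.left) ∈
      Scheme.fpqcPrecoverage U.left)
    {XU : Scheme.{u}} {p : XU ⟶ X} {q : XU ⟶ U.left} (hsq : IsPullback p q f U.hom) :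
    Presieve.ofArrows (fun i => (Ho H (d i)).XT) (fun i => jm H hsq (d i)) ∈ Scheme.fpqcPrecoverage XU :=
  Precoverage.mem_coverings_of_isPullback _ hd q _ (fun i => bq H (d i)) fun i => isPullback_jm H hsq (d i)

end Groth.Agent.ModStLib.Desc
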