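import Groth.Agent.FpqcMod.Hom
import Groth.Prelude.Def_ModSt

/-!
# Descent data of modules in terms of inverse images
-/

universe u

set_option autoImplicit false
set_option backward.isDefEq.respectTransparency false
set_option backward.isDefEq.respectTransparency.types false

open CategoryTheory CategoryTheory.Limits AlgebraicGeometry Opposite
open CategoryTheory.Pseudofunctor CategoryTheory.Pseudofunctor.LocallyDiscreteOpToCat

namespace Groth.Agent.ModStLib.Desc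

open Groth.Agent.FpqcMod

variable {Z : Scheme.{u}} {ι : Type u}

section Fam

-- The objects are given through `ModSt.Obj` so that instantiation produces no beta redex.
variable {X S : Scheme.{u}} {f : X ⟶ S} {Ob : Type*} {A : Ob → ModSt.Obj f}
  (J : ∀ e, (A e).XT ⟶ Z) (d : ι → Ob)

/-- A descent datum on a family of objects from comparisons of inverse images. -/
noncomputable def mkDD
    (hom : ∀ (Y : Scheme.{u}) (t : Y ⟶ Z) (i j : ι) (a : Y ⟶ (A (d i)).XT) (b : Y ⟶ (A (d j)).XT),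
      a ≫ J (d i) = t → b ≫ J (d j) = t →
      ((Scheme.Modules.pullback a).obj (A (d i)).E ⟶ (Scheme.Modules.pullback b).obj (A (d j)).E))
    (hnat : ∀ (Y' Y : Scheme.{u}) (g : Y' ⟶ Y) (t : Y ⟶ Z) (t' : Y' ⟶ Z) (_ : g ≫ t = t') (i j : ι)
      (a : Y ⟶ (A (d i)).XT) (b : Y ⟶ (A (d j)).XT) (ha : a ≫ J (d i) = t) (hb : b ≫ J (d j) = t)
      (ga : Y' ⟶ (A (d i)).XT) (gb : Y' ⟶ (A (d j)).XT) (hga : g ≫ a = ga) (hgb : g ≫ b = gb)
      (ha' : ga ≫ J (d i) = t') (hb' : gb ≫ J (d j) = t'),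
      (τ (A (d i)).E g a ga hga).inv ≫ (Scheme.Modules.pullback g).map (hom Y t i j a b ha hb) ≫
        (τ (A (d j)).E g b gb hgb).hom = hom Y' t' i j ga gb ha' hb')
    (hself : ∀ (Y : Scheme.{u}) (t : Y ⟶ Z) (i : ι) (a : Y ⟶ (A (d i)).XT) (ha : a ≫ J (d i) = t),
      hom Y t i i a a ha ha = 𝟙 _)
    (hcomp : ∀ (Y : Scheme.{u}) (t : Y ⟶ Z) (i j k : ι) (a : Y ⟶ (A (d i)).XT) (b : Y ⟶ (A (d j)).XT)
      (c : Y ⟶ (A (d k)).XT) (ha : a ≫ J (d i) = t) (hb : b ≫ J (d j) = t) (hc : c ≫ J (d k) = t),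
      hom Y t i j a b ha hb ≫ hom Y t j k b c hb hc = hom Y t i k a c ha hc) :
    Desc.modPF.{u}.DescentData (fun i => J (d i)) where
  obj i := (A (d i)).E
  hom Y t i j a b ha hb := hom Y t i j a b ha hb
  pullHom_hom Y' Y g t t' hg i j a b ha hb ga gb hga hgb := by
    rw [pullHom, mapComp'_hom_app _ g a ga hga, mapComp'_inv_app _ g b gb hgb]
    exact hnat Y' Y g t t' hg i j a b ha hb ga gb hga hgb _ _
  hom_self Y t i a ha := hself Y t i a ha
  hom_comp Y t i j k a b c ha hb hc := hcomp Y t i j k a b c ha hb hc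

/-- An isomorphism of descent data of a family of objects, for abstract data. -/
noncomputable def mkIsoFam {D₁ D₂ : Desc.modPF.{u}.DescentData (fun i => J (d i))}
    (e : ∀ i, D₁.obj i ≅ D₂.obj i)
    (h : ∀ (Y : Scheme.{u}) (t : Y ⟶ Z) (i j : ι) (a : Y ⟶ (A (d i)).XT) (b : Y ⟶ (A (d j)).XT)
      (ha : a ≫ J (d i) = t) (hb : b ≫ J (d j) = t),
      (Scheme.Modules.pullback a).map (e i).hom ≫ D₂.hom t a b ha hb =
        D₁.hom t a b ha hb ≫ (Scheme.Modules.pullback b).map (e j).hom) : D₁ ≅ D₂ :=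
  Pseudofunctor.DescentData.isoMk e fun Y t i j a b ha hb => h Y t i j a b ha hb

end Fam

/-- An isomorphism of descent data from compatible isomorphisms, for abstract data. -/
noncomputable def mkIso {Xs : ι → Scheme.{u}} {J : ∀ i, Xs i ⟶ Z} {D₁ D₂ : Desc.modPF.{u}.DescentData J}
    (e : ∀ i, D₁.obj i ≅ D₂.obj i)
    (h : ∀ (Y : Scheme.{u}) (t : Y ⟶ Z) (i j : ι) (a : Y ⟶ Xs i) (b : Y ⟶ Xs j) (ha : a ≫ J i = t)
      (hb : b ≫ J j = t), (Scheme.Modules.pullback a).map (e i).hom ≫ D₂.hom t a b ha hb =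
        D₁.hom t a b ha hb ≫ (Scheme.Modules.pullback b).map (e j).hom) : D₁ ≅ D₂ :=
  Pseudofunctor.DescentData.isoMk e fun Y t i j a b ha hb => h Y t i j a b ha hb

/-- The compatibility of a morphism of descent data, for abstract data. -/
theorem hom_comm {Xs : ι → Scheme.{u}} {J : ∀ i, Xs i ⟶ Z} {D₁ D₂ : Desc.modPF.{u}.DescentData J} (φ : D₁ ⟶ D₂)
    {Y : Scheme.{u}} (t : Y ⟶ Z) {i j : ι} (a : Y ⟶ Xs i) (b : Y ⟶ Xs j) (ha : a ≫ J i = t) (hb : b ≫ J j = t) :
    (Scheme.Modules.pullback a).map (φ.hom i) ≫ D₂.hom t a b ha hb =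
      D₁.hom t a b ha hb ≫ (Scheme.Modules.pullback b).map (φ.hom j) :=
  φ.comm t a b ha hb

/-- An isomorphism from the datum of a module. -/
noncomputable def isoOfTau {Xs : ι → Scheme.{u}} (J : ∀ i, Xs i ⟶ Z) {M : Z.Modules}
    (D : Desc.modPF.{u}.DescentData J) (θ : ∀ i, (Scheme.Modules.pullback (J i)).obj M ≅ D.obj i)
    (h : ∀ (Y : Scheme.{u}) (t : Y ⟶ Z) (i j : ι) (a : Y ⟶ Xs i) (b : Y ⟶ Xs j)
      (ha : a ≫ J i = t) (hb : b ≫ J j = t),
      (Scheme.Modules.pullback a).map (θ i).hom ≫ D.hom t a b ha hb =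
        ((τ M a (J i) t ha).hom ≫ (τ M b (J j) t hb).inv) ≫ (Scheme.Modules.pullback b).map (θ j).hom) :
    (Desc.modPF.{u}.toDescentData J).obj M ≅ D :=
  mkIso θ fun Y t i j a b ha hb =>
    (h Y t i j a b ha hb).trans
      (congrArg (fun x => x ≫ (Scheme.Modules.pullback b).map (θ j).hom)
        (ofObj_hom (M := M) J i j a b t ha hb).symm)

/-- The compatibility of a morphism out of the datum of a module. -/
theorem hom_comm_tau {Xs : ι → Scheme.{u}} (J : ∀ i, Xs i ⟶ Z) {M : Z.Modules}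
    {D : Desc.modPF.{u}.DescentData J} (φ : (Desc.modPF.{u}.toDescentData J).obj M ⟶ D) {Y : Scheme.{u}}
    (t : Y ⟶ Z) {i j : ι} (a : Y ⟶ Xs i) (b : Y ⟶ Xs j) (ha : a ≫ J i = t) (hb : b ≫ J j = t) :
    (Scheme.Modules.pullback a).map (φ.hom i) ≫ D.hom t a b ha hb =
      ((τ M a (J i) t ha).hom ≫ (τ M b (J j) t hb).inv) ≫ (Scheme.Modules.pullback b).map (φ.hom j) :=
  (hom_comm φ t a b ha hb).trans
    (congrArg (fun x => x ≫ (Scheme.Modules.pullback b).map (φ.hom j)) (ofObj_hom (M := M) J i j a b t ha hb))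

variable {X S : Scheme.{u}} {f : X ⟶ S} {Ob : Type*} {A : Ob → ModSt.Obj f}
  (J : ∀ e, (A e).XT ⟶ Z) (d : ι → Ob)

/-- An isomorphism from the datum of a module, for a family of objects. -/
noncomputable def isoOfTauFam {M : Z.Modules} (D : Desc.modPF.{u}.DescentData (fun i => J (d i)))
    (θ : ∀ i, (Scheme.Modules.pullback (J (d i))).obj M ≅ D.obj i)
    (h : ∀ (Y : Scheme.{u}) (t : Y ⟶ Z) (i j : ι) (a : Y ⟶ (A (d i)).XT) (b : Y ⟶ (A (d j)).XT)
      (ha : a ≫ J (d i) = t) (hb : b ≫ J (d j) = t),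
      (Scheme.Modules.pullback a).map (θ i).hom ≫ D.hom t a b ha hb =
        ((τ M a (J (d i)) t ha).hom ≫ (τ M b (J (d j)) t hb).inv) ≫ (Scheme.Modules.pullback b).map (θ j).hom) :
    (Desc.modPF.{u}.toDescentData (fun i => J (d i))).obj M ≅ D :=
  mkIsoFam J d θ fun Y t i j a b ha hb =>
    (h Y t i j a b ha hb).trans
      (congrArg (fun x => x ≫ (Scheme.Modules.pullback b).map (θ j).hom)
        (ofObj_hom (M := M) (fun i => J (d i)) i j a b t ha hb).symm)

/-- The compatibility of a morphism out of the datum of a module, for a family of objects. -/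
theorem hom_comm_tauFam {M : Z.Modules} {D : Desc.modPF.{u}.DescentData (fun i => J (d i))}
    (φ : (Desc.modPF.{u}.toDescentData (fun i => J (d i))).obj M ⟶ D) {Y : Scheme.{u}} (t : Y ⟶ Z) {i j : ι}
    (a : Y ⟶ (A (d i)).XT) (b : Y ⟶ (A (d j)).XT) (ha : a ≫ J (d i) = t) (hb : b ≫ J (d j) = t) :
    (Scheme.Modules.pullback a).map (φ.hom i) ≫ D.hom t a b ha hb =
      ((τ M a (J (d i)) t ha).hom ≫ (τ M b (J (d j)) t hb).inv) ≫ (Scheme.Modules.pullback b).map (φ.hom j) :=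
  hom_comm_tau (fun i => J (d i)) φ t a b ha hb

end Groth.Agent.ModStLib.Desc
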