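import Groth.Agent.ModStLib.Desc.Adj
import Groth.Agent.ModStLib.Desc.Generic
import Groth.Agent.FpqcMod.Eff.Datum
import Groth.Prelude.Def_AlgSt

/-!
# The descent datum of a family of modules over a sieve
-/

universe u

set_option autoImplicit false
set_option backward.isDefEq.respectTransparency false
set_option backward.isDefEq.respectTransparency.types false
set_option linter.style.haveILetI false

open CategoryTheory CategoryTheory.Functor CategoryTheory.Limits AlgebraicGeometry TopologicalSpace Opposite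
open CategoryTheory.Pseudofunctor CategoryTheory.Pseudofunctor.LocallyDiscreteOpToCat

namespace Groth.Agent.ModStLib.Desc

open Groth.Agent.EtLC12.AssocUnit Groth.Agent.QCoh Groth.Agent.FpqcMod

variable {X S : Scheme.{u}} {f : X ⟶ S} {P : ModSt.Obj f → Prop} {U : Over S} {R : Sieve U}
  (H : Stk.sieveCat R ⥤ᵇ AlgSt.fullSub (ModSt.Fam f) P)

/-- The objects of the family. -/
abbrev Ho (d : (Stk.sieveCat R).obj) : ModSt.Obj f := (H.obj d).obj

lemma base_eq (d : (Stk.sieveCat R).obj) : (Ho H d).base = d.obj.left := H.w_obj d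

/-- The morphisms of the family. -/
abbrev Hm {d e : (Stk.sieveCat R).obj} (g : d ⟶ e) : Ho H d ⟶ Ho H e := (H.map g).hom

lemma Hm_comp {d e e' : (Stk.sieveCat R).obj} (g : d ⟶ e) (g' : e ⟶ e') :
    Hm H (g ≫ g') = Hm H g ≫ Hm H g' :=
  congrArg (fun m => m.hom) (H.toFunctor.map_comp g g')

lemma Hm_base {d e : (Stk.sieveCat R).obj} (g : d ⟶ e) :
    (Hm H g).base ≫ eqToHom (base_eq H e) = eqToHom (base_eq H d) ≫ g.hom.left := by
  haveI : (Stk.sieveCat R).p.IsHomLift g.hom.left g := IsHomLift.map (Stk.sieveCat R).p g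
  haveI := H.preserves_isHomLift g.hom.left g
  have h := IsHomLift.fac' (AlgSt.fullSub (ModSt.Fam f) P).p g.hom.left (H.map g)
  rw [show (Hm H g).base = _ from h]
  simp

/-- The projection of a member to the source of its arrow. -/
noncomputable def bq (d : (Stk.sieveCat R).obj) : (Ho H d).XT ⟶ d.obj.left.left :=
  (Ho H d).q ≫ (eqToHom (base_eq H d)).left

lemma top_bq {d e : (Stk.sieveCat R).obj} (g : d ⟶ e) :
    (Hm H g).top ≫ bq H e = bq H d ≫ g.hom.left.left := by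
  rw [bq, bq, ← Category.assoc, (Hm H g).w_q, Category.assoc, Category.assoc]
  rw [← Over.comp_left, Hm_base, Over.comp_left]

lemma sieve_hom_ext {d e : (Stk.sieveCat R).obj} {g g' : d ⟶ e} (h : g.hom.left.left = g'.hom.left.left) :
    g = g' :=
  ObjectProperty.hom_ext _ (Over.OverMorphism.ext (Over.OverMorphism.ext h))

variable {XU : Scheme.{u}} {p : XU ⟶ X} {q : XU ⟶ U.left} (hsq : IsPullback p q f U.hom)

lemma bq_hom (d : (Stk.sieveCat R).obj) :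
    (Ho H d).p ≫ f = (bq H d ≫ d.obj.hom.left) ≫ U.hom := by
  rw [Category.assoc, Over.w d.obj.hom, bq, Category.assoc, Over.w (eqToHom (base_eq H d))]
  exact (Ho H d).isPullback.w

/-- The projection of a member to the total space over the base of the sieve. -/
noncomputable def jm (d : (Stk.sieveCat R).obj) : (Ho H d).XT ⟶ XU :=
  hsq.lift (Ho H d).p (bq H d ≫ d.obj.hom.left) (bq_hom H d)

lemma jm_p (d : (Stk.sieveCat R).obj) : jm H hsq d ≫ p = (Ho H d).p := hsq.lift_fst _ _ _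

lemma jm_q (d : (Stk.sieveCat R).obj) : jm H hsq d ≫ q = bq H d ≫ d.obj.hom.left := hsq.lift_snd _ _ _

theorem isPullback_jm (d : (Stk.sieveCat R).obj) : IsPullback (jm H hsq d) (bq H d) q d.obj.hom.left := by
  refine IsPullback.of_right ?_ (jm_q H hsq d) hsq
  rw [jm_p, Over.w d.obj.hom]
  refine (Ho H d).isPullback.of_iso (Iso.refl _) (Iso.refl _) ((Over.forget S).mapIso (eqToIso (base_eq H d)))
    (Iso.refl _) ?_ ?_ ?_ ?_
  · simp
  · simp [bq]
  · simp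
  · exact (Category.comp_id _).trans (Over.w (eqToIso (base_eq H d)).hom).symm

lemma top_jm {d e : (Stk.sieveCat R).obj} (g : d ⟶ e) : (Hm H g).top ≫ jm H hsq e = jm H hsq d := by
  refine hsq.hom_ext ?_ ?_
  · rw [Category.assoc, jm_p, jm_p, (Hm H g).w_p]
  · rw [Category.assoc, jm_q, jm_q, ← Category.assoc, top_bq, Category.assoc, ← Over.comp_left, Over.w g.hom]

lemma c_congr {A B : ModSt.Obj f} {φ ψ : A ⟶ B} (h : φ = ψ) {Y : Scheme.{u}} (l : Y ⟶ A.XT) {W : B.XT.Opens}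
    {V : Y.Opens} (hφ : V ≤ l ⁻¹ᵁ (φ.top ⁻¹ᵁ W)) (hψ : V ≤ l ⁻¹ᵁ (ψ.top ⁻¹ᵁ W)) (n : Γ(B.E, W)) :
    pullSec l A.E hφ (φ.c.app W n) = pullSec l A.E hψ (ψ.c.app W n) := by
  subst h
  rfl

section Point

variable {Y : Scheme.{u}} (t : Y ⟶ XU)

/-- The base arrow of a point of the total space. -/
noncomputable abbrev ptHom : Over.mk (t ≫ q ≫ U.hom) ⟶ U := Over.homMk (t ≫ q) (Category.assoc _ _ _)

variable {t} (ht : R (ptHom (U := U) (q := q) t))

/-- The member of the family at a point. -/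
noncomputable abbrev pt : (Stk.sieveCat R).obj := ⟨Over.mk (ptHom (U := U) (q := q) t), ht⟩

/-- The tautological point of that member. -/
noncomputable def lpt : Y ⟶ (Ho H (pt ht)).XT :=
  (isPullback_jm H hsq (pt ht)).lift t (𝟙 Y) (Category.id_comp _).symm

lemma lpt_jm : lpt H hsq ht ≫ jm H hsq (pt ht) = t := IsPullback.lift_fst _ _ _ _

lemma lpt_bq : lpt H hsq ht ≫ bq H (pt ht) = 𝟙 Y := IsPullback.lift_snd _ _ _ _

/-- The module at a point. -/
noncomputable abbrev Ept : Y.Modules := (Scheme.Modules.pullback (lpt H hsq ht)).obj (Ho H (pt ht)).E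

variable {d : (Stk.sieveCat R).obj} {a : Y ⟶ (Ho H d).XT} (ha : a ≫ jm H hsq d = t)

include hsq ha in
lemma pt_w : (a ≫ bq H d) ≫ d.obj.hom.left = t ≫ q := by
  rw [← ha, Category.assoc, Category.assoc, jm_q]

include hsq ha in
/-- A point over a member is in the sieve. -/
theorem pt_mem : R (ptHom (U := U) (q := q) t) := by
  have e : ptHom (U := U) (q := q) t = (Over.homMk (a ≫ bq H d) (by
      show (a ≫ bq H d) ≫ d.obj.left.hom = t ≫ q ≫ U.hom
      rw [← Over.w d.obj.hom, ← Category.assoc, pt_w H hsq ha, Category.assoc]) : Over.mk (t ≫ q ≫ U.hom) ⟶ d.obj.left) ≫ d.obj.hom :=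
    Over.OverMorphism.ext (pt_w H hsq ha).symm
  rw [e]
  exact R.downward_closed d.property _

/-- The arrow from the member at a point. -/
noncomputable def gd : pt ht ⟶ d :=
  ObjectProperty.homMk (Over.homMk (Over.homMk (a ≫ bq H d) (by
      show (a ≫ bq H d) ≫ d.obj.left.hom = t ≫ q ≫ U.hom
      rw [← Over.w d.obj.hom, ← Category.assoc, pt_w H hsq ha, Category.assoc]))
    (Over.OverMorphism.ext (pt_w H hsq ha)))

lemma lpt_gd : lpt H hsq ht ≫ (Hm H (gd H hsq ht ha)).top = a := by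
  refine (isPullback_jm H hsq d).hom_ext ?_ ?_
  · rw [Category.assoc, top_jm, lpt_jm, ha]
  · rw [Category.assoc, top_bq, ← Category.assoc, lpt_bq, Category.id_comp]
    rfl

/-- The comparison with the module at a point. -/
noncomputable def κ : (Scheme.Modules.pullback a).obj (Ho H d).E ⟶ Ept H hsq ht :=
  (τ (Ho H d).E (lpt H hsq ht) (Hm H (gd H hsq ht ha)).top a (lpt_gd H hsq ht ha)).inv ≫
    (Scheme.Modules.pullback (lpt H hsq ht)).map (adjC _ (Hm H (gd H hsq ht ha)).c)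

instance : IsIso (κ H hsq ht ha) := by
  haveI := isIso_adjC _ (Hm H (gd H hsq ht ha)).cart
  unfold κ
  infer_instance

include ha in
lemma pt_le {W : (Ho H d).XT.Opens} {V : Y.Opens} (hV : V ≤ a ⁻¹ᵁ W) :
    V ≤ lpt H hsq ht ⁻¹ᵁ ((Hm H (gd H hsq ht ha)).top ⁻¹ᵁ W) := by
  refine hV.trans (le_of_eq ?_)
  rw [← Scheme.Hom.comp_preimage, lpt_gd]

lemma κ_pullSec {W : (Ho H d).XT.Opens} {V : Y.Opens} (hV : V ≤ a ⁻¹ᵁ W) (n : Γ((Ho H d).E, W)) :
    (κ H hsq ht ha).app V (pullSec a _ hV n) =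
      pullSec (lpt H hsq ht) _ (pt_le H hsq ht ha hV) ((Hm H (gd H hsq ht ha)).c.app W n) := by
  show ((Scheme.Modules.pullback (lpt H hsq ht)).map (adjC _ (Hm H (gd H hsq ht ha)).c)).app V
    ((τ (Ho H d).E (lpt H hsq ht) (Hm H (gd H hsq ht ha)).top a (lpt_gd H hsq ht ha)).inv.app V
      (pullSec a _ hV n)) = _
  rw [τ_inv_pullSec (lpt H hsq ht) (Hm H (gd H hsq ht ha)).top a (lpt_gd H hsq ht ha)
    (pt_le H hsq ht ha hV) le_rfl hV n, map_pullSec, adjC_pullSec]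
  congr 1
  exact map_id' _ _

variable {Y' : Scheme.{u}} {g : Y' ⟶ Y} {t' : Y' ⟶ XU} (hg : g ≫ t = t')
  (ht' : R (ptHom (U := U) (q := q) t'))

/-- The arrow between the members at two points. -/
noncomputable def Gpt : pt ht' ⟶ pt ht :=
  ObjectProperty.homMk (Over.homMk (Over.homMk g (show g ≫ t ≫ q ≫ U.hom = t' ≫ q ≫ U.hom by
      rw [← hg, Category.assoc]))
    (Over.OverMorphism.ext (show g ≫ t ≫ q = t' ≫ q by rw [← hg, Category.assoc])))

lemma lpt_Gpt : lpt H hsq ht' ≫ (Hm H (Gpt ht hg ht')).top = g ≫ lpt H hsq ht := by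
  refine (isPullback_jm H hsq (pt ht)).hom_ext ?_ ?_
  · rw [Category.assoc, Category.assoc, top_jm, lpt_jm, lpt_jm, hg]
  · rw [Category.assoc, Category.assoc, top_bq, ← Category.assoc, lpt_bq, lpt_bq, Category.id_comp,
      Category.comp_id]
    rfl

/-- Pullback of the module at a point. -/
noncomputable def χ : (Scheme.Modules.pullback g).obj (Ept H hsq ht) ⟶ Ept H hsq ht' :=
  (τ (Ho H (pt ht)).E g (lpt H hsq ht) (g ≫ lpt H hsq ht) rfl).hom ≫
    (τ (Ho H (pt ht)).E (lpt H hsq ht') (Hm H (Gpt ht hg ht')).top _ (lpt_Gpt H hsq ht hg ht')).inv ≫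
      (Scheme.Modules.pullback (lpt H hsq ht')).map (adjC _ (Hm H (Gpt ht hg ht')).c)

instance : IsIso (χ H hsq ht hg ht') := by
  haveI := isIso_adjC _ (Hm H (Gpt ht hg ht')).cart
  unfold χ
  infer_instance

variable {ga : Y' ⟶ (Ho H d).XT} (hga : g ≫ a = ga) (ha' : ga ≫ jm H hsq d = t')

lemma Gpt_gd (hga : g ≫ a = ga) : Gpt ht hg ht' ≫ gd H hsq ht ha = gd H hsq ht' ha' :=
  sieve_hom_ext (show g ≫ a ≫ bq H d = ga ≫ bq H d by rw [← hga, Category.assoc])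

lemma κ_natural : (τ (Ho H d).E g a ga hga).inv ≫ (Scheme.Modules.pullback g).map (κ H hsq ht ha) ≫
    χ H hsq ht hg ht' = κ H hsq ht' ha' := by
  refine hom_ext_usec ga fun W n => ?_
  rw [usec_eq_pullSec, κ_pullSec]
  have h1 : ga ⁻¹ᵁ W ≤ g ⁻¹ᵁ (a ⁻¹ᵁ W) := by rw [← Scheme.Hom.comp_preimage, hga]
  simp only [Scheme.Modules.Hom.comp_app, CategoryTheory.comp_apply]
  rw [τ_inv_pullSec g a ga hga h1 (le_refl (a ⁻¹ᵁ W)) (le_refl (ga ⁻¹ᵁ W)) n, map_pullSec, κ_pullSec]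
  let W₀ : (Ho H (pt ht)).XT.Opens := (Hm H (gd H hsq ht ha)).top ⁻¹ᵁ W
  let z : Γ((Ho H (pt ht)).E, W₀) := (Hm H (gd H hsq ht ha)).c.app W n
  have hz : ga ⁻¹ᵁ W ≤ (g ≫ lpt H hsq ht) ⁻¹ᵁ W₀ :=
    h1.trans ((Opens.map g.base).map (homOfLE (pt_le H hsq ht ha le_rfl))).le
  have hz' : ga ⁻¹ᵁ W ≤ lpt H hsq ht' ⁻¹ᵁ ((Hm H (Gpt ht hg ht')).top ⁻¹ᵁ W₀) := by
    rw [← Scheme.Hom.comp_preimage, lpt_Gpt]
    exact hz
  show ((Scheme.Modules.pullback (lpt H hsq ht')).map (adjC _ (Hm H (Gpt ht hg ht')).c)).app _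
    ((τ (Ho H (pt ht)).E (lpt H hsq ht') (Hm H (Gpt ht hg ht')).top _ (lpt_Gpt H hsq ht hg ht')).inv.app _
      (T (Ho H (pt ht)).E g (lpt H hsq ht) (g ≫ lpt H hsq ht) rfl h1
        (pullSec (lpt H hsq ht) _ (pt_le H hsq ht ha le_rfl) z))) = _
  rw [T_pullSec, τ_inv_pullSec (lpt H hsq ht') (Hm H (Gpt ht hg ht')).top _ (lpt_Gpt H hsq ht hg ht') hz' le_rfl,
    map_pullSec, adjC_pullSec]
  refine (congrArg (pullSec _ _ hz') (map_id' _ _)).trans ?_
  refine Eq.trans ?_ (c_congr (show Hm H (Gpt ht hg ht') ≫ Hm H (gd H hsq ht ha) = Hm H (gd H hsq ht' ha') by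
    rw [← Hm_comp, Gpt_gd H hsq ht ha hg ht' ha' hga]) (lpt H hsq ht') (W := W) hz'
      (pt_le H hsq ht' ha' le_rfl) n)
  rw [ModSt.Obj.comp_c_app]

end Point

section Family

variable {I : Type u} (d : I → (Stk.sieveCat R).obj)

/-- The comparison of two members at a point. -/
noncomputable def homAB {Y : Scheme.{u}} {t : Y ⟶ XU} {e e' : (Stk.sieveCat R).obj} {a : Y ⟶ (Ho H e).XT}
    {b : Y ⟶ (Ho H e').XT} (ht : R (ptHom (U := U) (q := q) t)) (ha : a ≫ jm H hsq e = t)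
    (hb : b ≫ jm H hsq e' = t) :
    (Scheme.Modules.pullback a).obj (Ho H e).E ⟶ (Scheme.Modules.pullback b).obj (Ho H e').E :=
  κ H hsq ht ha ≫ CategoryTheory.inv (κ H hsq ht hb)

/-- The comparison along a member. -/
noncomputable def θIso {M : XU.Modules} {e : (Stk.sieveCat R).obj}
    (θ : (Scheme.Modules.pullback (jm H hsq e)).obj M ⟶ (Ho H e).E) (h : IsIso θ) :
    (Scheme.Modules.pullback (jm H hsq e)).obj M ≅ (Ho H e).E :=
  haveI := h
  asIso θ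

lemma homAB_self {Y : Scheme.{u}} {t : Y ⟶ XU} {e : (Stk.sieveCat R).obj} {a : Y ⟶ (Ho H e).XT}
    (ht : R (ptHom (U := U) (q := q) t)) (ha : a ≫ jm H hsq e = t) : homAB H hsq ht ha ha = 𝟙 _ :=
  IsIso.hom_inv_id _

lemma homAB_comp {Y : Scheme.{u}} {t : Y ⟶ XU} {e e' e'' : (Stk.sieveCat R).obj} {a : Y ⟶ (Ho H e).XT}
    {b : Y ⟶ (Ho H e').XT} {c : Y ⟶ (Ho H e'').XT} (ht : R (ptHom (U := U) (q := q) t))
    (ha : a ≫ jm H hsq e = t) (hb : b ≫ jm H hsq e' = t) (hc : c ≫ jm H hsq e'' = t) :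
    homAB H hsq ht ha hb ≫ homAB H hsq ht hb hc = homAB H hsq ht ha hc := by
  simp [homAB]

lemma homAB_natural {Y Y' : Scheme.{u}} {g : Y' ⟶ Y} {t : Y ⟶ XU} {t' : Y' ⟶ XU} (hg : g ≫ t = t')
    {e e' : (Stk.sieveCat R).obj} {a : Y ⟶ (Ho H e).XT} {b : Y ⟶ (Ho H e').XT}
    (ht : R (ptHom (U := U) (q := q) t)) (ht' : R (ptHom (U := U) (q := q) t')) (ha : a ≫ jm H hsq e = t)
    (hb : b ≫ jm H hsq e' = t) {ga : Y' ⟶ (Ho H e).XT} {gb : Y' ⟶ (Ho H e').XT} (hga : g ≫ a = ga)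
    (hgb : g ≫ b = gb) (ha' : ga ≫ jm H hsq e = t') (hb' : gb ≫ jm H hsq e' = t') :
    (τ (Ho H e).E g a ga hga).inv ≫ (Scheme.Modules.pullback g).map (homAB H hsq ht ha hb) ≫
      (τ (Ho H e').E g b gb hgb).hom = homAB H hsq ht' ha' hb' := by
  rw [homAB, homAB, IsIso.eq_comp_inv]
  conv_lhs => rw [← κ_natural H hsq ht hb hg ht' hgb hb']
  conv_rhs => rw [← κ_natural H hsq ht ha hg ht' hga ha']
  simp only [Category.assoc, Iso.hom_inv_id_assoc]
  rw [← Functor.map_comp_assoc, Category.assoc, IsIso.inv_hom_id, Category.comp_id]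

/-- The comparisons of the datum. -/
noncomputable def homD (Y : Scheme.{u}) (t : Y ⟶ XU) (i j : I) (a : Y ⟶ (Ho H (d i)).XT)
    (b : Y ⟶ (Ho H (d j)).XT) (ha : a ≫ jm H hsq (d i) = t) (hb : b ≫ jm H hsq (d j) = t) :
    (Scheme.Modules.pullback a).obj (Ho H (d i)).E ⟶ (Scheme.Modules.pullback b).obj (Ho H (d j)).E :=
  homAB H hsq (pt_mem H hsq ha) ha hb

lemma homD_eq {Y : Scheme.{u}} {t : Y ⟶ XU} (ht : R (ptHom (U := U) (q := q) t)) {i j : I}
    {a : Y ⟶ (Ho H (d i)).XT} {b : Y ⟶ (Ho H (d j)).XT} (ha : a ≫ jm H hsq (d i) = t) (hb : b ≫ jm H hsq (d j) = t) :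
    homD H hsq d Y t i j a b ha hb = homAB H hsq ht ha hb := rfl

lemma homD_natural (Y' Y : Scheme.{u}) (g : Y' ⟶ Y) (t : Y ⟶ XU) (t' : Y' ⟶ XU) (hg : g ≫ t = t') (i j : I)
    (a : Y ⟶ (Ho H (d i)).XT) (b : Y ⟶ (Ho H (d j)).XT) (ha : a ≫ jm H hsq (d i) = t)
    (hb : b ≫ jm H hsq (d j) = t) (ga : Y' ⟶ (Ho H (d i)).XT) (gb : Y' ⟶ (Ho H (d j)).XT) (hga : g ≫ a = ga)
    (hgb : g ≫ b = gb) (ha' : ga ≫ jm H hsq (d i) = t') (hb' : gb ≫ jm H hsq (d j) = t') :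
    (τ (Ho H (d i)).E g a ga hga).inv ≫ (Scheme.Modules.pullback g).map (homD H hsq d Y t i j a b ha hb) ≫
      (τ (Ho H (d j)).E g b gb hgb).hom = homD H hsq d Y' t' i j ga gb ha' hb' := by
  rw [homD, homD]
  exact homAB_natural H hsq hg (pt_mem H hsq ha) (pt_mem H hsq ha') ha hb hga hgb ha' hb'

lemma homD_self (Y : Scheme.{u}) (t : Y ⟶ XU) (i : I) (a : Y ⟶ (Ho H (d i)).XT)
    (ha : a ≫ jm H hsq (d i) = t) : homD H hsq d Y t i i a a ha ha = 𝟙 _ := by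
  rw [homD]
  exact homAB_self H hsq (pt_mem H hsq ha) ha

lemma homD_comp (Y : Scheme.{u}) (t : Y ⟶ XU) (i j k : I) (a : Y ⟶ (Ho H (d i)).XT)
    (b : Y ⟶ (Ho H (d j)).XT) (c : Y ⟶ (Ho H (d k)).XT) (ha : a ≫ jm H hsq (d i) = t)
    (hb : b ≫ jm H hsq (d j) = t) (hc : c ≫ jm H hsq (d k) = t) :
    homD H hsq d Y t i j a b ha hb ≫ homD H hsq d Y t j k b c hb hc = homD H hsq d Y t i k a c ha hc := by
  rw [homD_eq H hsq d (pt_mem H hsq ha), homD_eq H hsq d (pt_mem H hsq ha), homD_eq H hsq d (pt_mem H hsq ha)]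
  exact homAB_comp H hsq (pt_mem H hsq ha) ha hb hc

/-- The descent datum along a family of members. -/
noncomputable def datum : Desc.modPF.{u}.DescentData (fun i => jm H hsq (d i)) :=
  mkDD (A := Ho H) (jm H hsq) d (homD H hsq d) (homD_natural H hsq d) (homD_self H hsq d) (homD_comp H hsq d)

lemma datum_hom {Y : Scheme.{u}} (t : Y ⟶ XU) {i j : I} (a : Y ⟶ (Ho H (d i)).XT) (b : Y ⟶ (Ho H (d j)).XT)
    (ha : a ≫ jm H hsq (d i) = t) (hb : b ≫ jm H hsq (d j) = t) (ht : R (ptHom (U := U) (q := q) t)) :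
    (datum H hsq d).hom t a b ha hb = homAB H hsq ht ha hb := rfl

/-- Comparisons of a module with all members of the family. -/
structure Coc (M : XU.Modules) where
  /-- The comparisons. -/
  θ : ∀ e, (Scheme.Modules.pullback (jm H hsq e)).obj M ⟶ (Ho H e).E
  isIso : ∀ e, IsIso (θ e)
  nat : ∀ {e e' : (Stk.sieveCat R).obj} (g : e ⟶ e'),
    (τ M (Hm H g).top (jm H hsq e') (jm H hsq e) (top_jm H hsq g)).inv ≫
      (Scheme.Modules.pullback (Hm H g).top).map (θ e') ≫ adjC _ (Hm H g).c = θ e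

variable {H hsq} in
lemma Coc.nat_sec {M : XU.Modules} (C : Coc H hsq M) {e e' : (Stk.sieveCat R).obj} (g : e ⟶ e') {O : XU.Opens}
    {W : (Ho H e').XT.Opens} (hW : W ≤ jm H hsq e' ⁻¹ᵁ O) {V : (Ho H e).XT.Opens}
    (hV : V ≤ (Hm H g).top ⁻¹ᵁ W) (hV' : V ≤ jm H hsq e ⁻¹ᵁ O) (z : Γ(M, O)) :
    (C.θ e).app V (pullSec (jm H hsq e) M hV' z) =
      (Ho H e).E.presheaf.map (homOfLE hV).op ((Hm H g).c.app W ((C.θ e').app W (pullSec _ M hW z))) := by
  conv_lhs => rw [← C.nat g]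
  show (adjC _ (Hm H g).c).app V (((Scheme.Modules.pullback (Hm H g).top).map (C.θ e')).app V
    ((τ M (Hm H g).top (jm H hsq e') (jm H hsq e) (top_jm H hsq g)).inv.app V
      (pullSec (jm H hsq e) M hV' z))) = _
  rw [τ_inv_pullSec (Hm H g).top (jm H hsq e') (jm H hsq e) (top_jm H hsq g) hV hW hV' z, map_pullSec, adjC_pullSec]

lemma coc_comm {M : XU.Modules} (C : Coc H hsq M) {Y : Scheme.{u}} {t : Y ⟶ XU}
    (ht : R (ptHom (U := U) (q := q) t)) {e : (Stk.sieveCat R).obj} {a : Y ⟶ (Ho H e).XT}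
    (ha : a ≫ jm H hsq e = t) :
    (τ M a (jm H hsq e) t ha).inv ≫ (Scheme.Modules.pullback a).map (C.θ e) ≫ κ H hsq ht ha =
      (τ M (lpt H hsq ht) (jm H hsq (pt ht)) t (lpt_jm H hsq ht)).inv ≫
        (Scheme.Modules.pullback (lpt H hsq ht)).map (C.θ (pt ht)) := by
  refine hom_ext_usec t fun O z => ?_
  rw [usec_eq_pullSec]
  have h1 : t ⁻¹ᵁ O ≤ a ⁻¹ᵁ (jm H hsq e ⁻¹ᵁ O) := by rw [← Scheme.Hom.comp_preimage, ha]
  have h2 : t ⁻¹ᵁ O ≤ lpt H hsq ht ⁻¹ᵁ (jm H hsq (pt ht) ⁻¹ᵁ O) := by rw [← Scheme.Hom.comp_preimage, lpt_jm]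
  simp only [Scheme.Modules.Hom.comp_app, CategoryTheory.comp_apply]
  rw [τ_inv_pullSec a (jm H hsq e) t ha h1 (le_refl (jm H hsq e ⁻¹ᵁ O)) (le_refl (t ⁻¹ᵁ O)) z,
    τ_inv_pullSec (lpt H hsq ht) (jm H hsq (pt ht)) t (lpt_jm H hsq ht) h2 (le_refl (jm H hsq (pt ht) ⁻¹ᵁ O)) (le_refl (t ⁻¹ᵁ O)) z, map_pullSec,
    map_pullSec, κ_pullSec]
  have h3 : (Hm H (gd H hsq ht ha)).top ⁻¹ᵁ (jm H hsq e ⁻¹ᵁ O) = jm H hsq (pt ht) ⁻¹ᵁ O := by
    rw [← Scheme.Hom.comp_preimage, top_jm]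
  rw [C.nat_sec (gd H hsq ht ha) (W := jm H hsq e ⁻¹ᵁ O) le_rfl h3.ge le_rfl, pullSec_res]

lemma θIso_hom {M : XU.Modules} {e : (Stk.sieveCat R).obj}
    (θ : (Scheme.Modules.pullback (jm H hsq e)).obj M ⟶ (Ho H e).E) (h : IsIso θ) : (θIso H hsq θ h).hom = θ := rfl

lemma coc_natural {M : XU.Modules} (C : Coc H hsq M) {Y : Scheme.{u}} {t : Y ⟶ XU}
    (ht : R (ptHom (U := U) (q := q) t)) {e e' : (Stk.sieveCat R).obj} {a : Y ⟶ (Ho H e).XT}
    {b : Y ⟶ (Ho H e').XT} (ha : a ≫ jm H hsq e = t) (hb : b ≫ jm H hsq e' = t) :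
    (Scheme.Modules.pullback a).map (C.θ e) ≫ homAB H hsq ht ha hb =
      ((τ M a (jm H hsq e) t ha).hom ≫ (τ M b (jm H hsq e') t hb).inv) ≫
        (Scheme.Modules.pullback b).map (C.θ e') := by
  rw [homAB, ← Category.assoc, IsIso.comp_inv_eq, ← cancel_epi (τ M a (jm H hsq e) t ha).inv]
  simp only [Category.assoc, Iso.inv_hom_id_assoc]
  rw [coc_comm H hsq C _ ha, coc_comm H hsq C _ hb]

/-- A comparison gives an isomorphism with the descent datum. -/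
noncomputable def Coc.iso {M : XU.Modules} (C : Coc H hsq M) :
    (Desc.modPF.{u}.toDescentData (fun i => jm H hsq (d i))).obj M ≅ datum H hsq d :=
  isoOfTauFam (A := Ho H) (jm H hsq) d (datum H hsq d) (fun i => θIso H hsq (C.θ (d i)) (C.isIso (d i)))
    fun _ t _ _ a b ha hb => by
      rw [datum_hom H hsq d t a b ha hb (pt_mem H hsq ha), θIso_hom, θIso_hom]
      exact coc_natural H hsq C (pt_mem H hsq ha) ha hb

lemma Coc.iso_hom {M : XU.Modules} (C : Coc H hsq M) (i : I) : (C.iso H hsq d).hom.hom i = C.θ (d i) := rfl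

end Family

end Groth.Agent.ModStLib.Desc
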