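import Groth.Agent.ModStLib.Desc.Univ
import Groth.Agent.FpqcMod.Eff.Main
import Groth.Agent.FTDescent.FP
import Groth.Agent.GrFlat5.FlatAtIso

/-!
# Effective descent of flat finitely presented modules
-/

universe u

set_option autoImplicit false
set_option backward.isDefEq.respectTransparency false
set_option backward.isDefEq.respectTransparency.types false
set_option linter.style.haveILetI false

open CategoryTheory CategoryTheory.Functor CategoryTheory.Limits AlgebraicGeometry TopologicalSpace Opposite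
open scoped TensorProduct

namespace Groth.Agent.ModStLib.Desc

open Groth.Agent.EtLC12.AssocUnit Groth.Agent.QCoh Groth.Agent.FpqcMod

/-- Finite presentation descends along an fpqc covering family. -/
theorem isFP_of_family {Z : Scheme.{u}} {ι : Type u} {Xs : ι → Scheme.{u}} (f : ∀ i, Xs i ⟶ Z)
    (hf : Presieve.ofArrows Xs f ∈ Scheme.fpqcPrecoverage Z) {M : Z.Modules} (hM : Coh.IsQCoh M)
    (h : ∀ i, CohB1.IsFP ((Scheme.Modules.pullback (f i)).obj M)) : CohB1.IsFP M := by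
  refine (QCoh.isFP_iff hM).2 fun ⟨V, hV⟩ => ?_
  obtain ⟨m, c, hcov⟩ := exists_charts (f := f) hf hV
  haveI := flat_of_mem f hf
  haveI : Fact (IsAffineOpen V) := ⟨hV⟩
  refine FTDescent.finitePresentation_of_forall_baseChange (fun j : Fin m => CB (c j)) (fun p => ?_) fun j => ?_
  · obtain ⟨y, hy, rfl⟩ := QCoh.exists_point hV p
    obtain ⟨j, x, hx, rfl⟩ := hcov y hy
    refine ⟨j, (c j).hW.primeIdealOf ⟨x, hx⟩, PrimeSpectrum.ext (Ideal.ext fun a => ?_)⟩
    show (f (c j).i).appLE V (c j).W (c j).hle a ∈ ((c j).hW.primeIdealOf ⟨x, hx⟩).asIdeal ↔ _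
    rw [← not_iff_not, ← QCoh.mem_basicOpen_iff_notMem (c j).hW hx, Scheme.basicOpen_appLE,
      ← QCoh.mem_basicOpen_iff_notMem hV hy]
    exact ⟨fun h => h.2, fun h => ⟨hx, h⟩⟩
  · let F := f (c j).i
    let N := (Scheme.Modules.pullback F).obj M
    letI : Algebra Γ(Z, V) Γ(Xs (c j).i, (c j).W) := (F.appLE V (c j).W (c j).hle).hom.toAlgebra
    letI : Module Γ(Z, V) Γ(N, (c j).W) := Module.compHom _ (F.appLE V (c j).W (c j).hle).hom
    haveI : IsScalarTower Γ(Z, V) Γ(Xs (c j).i, (c j).W) Γ(N, (c j).W) := .of_algebraMap_smul fun _ _ => rfl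
    haveI := QCoh.finitePresentation_of_isFP (h (c j).i) (c j).hW
    let l : Γ(M, V) →ₗ[Γ(Z, V)] Γ(N, (c j).W) :=
      { toFun := QCoh.pullSec F M (c j).hle
        map_add' := QCoh.pullSec_add F M (c j).hle
        map_smul' := fun r m => QCoh.pullSec_smul F M (c j).hle r m }
    exact (show Module.FinitePresentation Γ(Xs (c j).i, (c j).W) (Γ(Xs (c j).i, (c j).W) ⊗[Γ(Z, V)] Γ(M, V)) from
      Module.FinitePresentation.of_equiv
        (QCoh.isBaseChange_pullback hV F (c j).hW hM (c j).hle (fun _ => rfl) l fun _ => rfl).equiv.symm)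

theorem isFP_of_iso' {Z : Scheme.{u}} {F F' : Z.Modules} (e : F ≅ F') (h : CohB1.IsFP F) : CohB1.IsFP F' :=
  (SheafOfModules.isFinitePresentation (R := Z.ringCatSheaf)).prop_of_iso e h

/-- Flatness over a base is insensitive to renaming the base. -/
theorem isFlatOver_eqToHom {S : Scheme.{u}} {A B : Over S} (h : A = B) {Y : Scheme.{u}} (q : Y ⟶ A.left) (M : Y.Modules)
    (hM : FlatMod.IsFlatOver q M) : FlatMod.IsFlatOver (q ≫ (eqToHom h).left) M := by
  subst h
  rwa [eqToHom_refl, Over.id_left, Category.comp_id]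

variable {X S : Scheme.{u}} {f : X ⟶ S} {P : ModSt.Obj f → Prop} {U : Over S} {R : Sieve U}
  (H : Stk.sieveCat R ⥤ᵇ AlgSt.fullSub (ModSt.Fam f) P)
  {XU : Scheme.{u}} {p : XU ⟶ X} {q : XU ⟶ U.left} (hsq : IsPullback p q f U.hom)
  {I : Type u} (d : I → (Stk.sieveCat R).obj) {M : XU.Modules}
  (θ : ∀ i, (Scheme.Modules.pullback (jm H hsq (d i))).obj M ⟶ (Ho H (d i)).E) [∀ i, IsIso (θ i)]

/-- The object carried by a descended module. -/
abbrev descObj (M : XU.Modules) : ModSt.Obj f := ⟨U, XU, p, q, hsq, M⟩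

/-- The leg at a member of the family. -/
noncomputable def leg (i : I) : Ho H (d i) ⟶ descObj hsq M where
  base := eqToHom (base_eq H (d i)) ≫ (d i).obj.hom
  top := jm H hsq (d i)
  w_p := jm_p H hsq (d i)
  w_q := by
    show jm H hsq (d i) ≫ q = _
    rw [jm_q, bq, Category.assoc, Over.comp_left]
  c := (Scheme.Modules.pullbackPushforwardAdjunction (jm H hsq (d i))).homEquiv _ _ (θ i)
  cart := isCart_homEquiv _ _

lemma leg_c_app (i : I) (W : XU.Opens) (n : Γ(M, W)) :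
    (leg H hsq d θ i).c.app W n = (θ i).app _ (usec (jm H hsq (d i)) M W n) := by
  show ((Scheme.Modules.pullbackPushforwardAdjunction (jm H hsq (d i))).homEquiv _ _ (θ i)).app W n = _
  rw [Adjunction.homEquiv_unit]
  rfl

/-- Legs composed with arrows into members do not depend on the member. -/
theorem leg_indep
    (hθ : ∀ (Y : Scheme.{u}) (t : Y ⟶ XU) (i j : I) (a : Y ⟶ (Ho H (d i)).XT) (b : Y ⟶ (Ho H (d j)).XT)
      (ha : a ≫ jm H hsq (d i) = t) (hb : b ≫ jm H hsq (d j) = t) (ht : R (ptHom (U := U) (q := q) t)),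
      (τ M a (jm H hsq (d i)) t ha).inv ≫ (Scheme.Modules.pullback a).map (θ i) ≫ κ H hsq ht ha =
        (τ M b (jm H hsq (d j)) t hb).inv ≫ (Scheme.Modules.pullback b).map (θ j) ≫ κ H hsq ht hb)
    {a : (Stk.sieveCat R).obj} {i j : I} (g : a ⟶ d i) (g' : a ⟶ d j) :
    Hm H g ≫ leg H hsq d θ i = Hm H g' ≫ leg H hsq d θ j := by
  refine hom_ext_sec ?_ fun W n V h1 h2 => ?_
  · show (Hm H g).base ≫ eqToHom (base_eq H (d i)) ≫ (d i).obj.hom =
      (Hm H g').base ≫ eqToHom (base_eq H (d j)) ≫ (d j).obj.hom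
    rw [← Category.assoc, Hm_base, ← Category.assoc (Hm H g').base, Hm_base, Category.assoc, Category.assoc,
      Over.w g.hom, Over.w g'.hom]
  let t := jm H hsq a
  have ha0 : 𝟙 (Ho H a).XT ≫ jm H hsq a = t := Category.id_comp _
  let ht := pt_mem H hsq ha0
  haveI := isIso_adjC _ (Hm H (gd H hsq ht ha0)).cart
  have hV : V ≤ t ⁻¹ᵁ W := by
    refine h1.trans (le_of_eq ?_)
    show ((Hm H g).top ≫ jm H hsq (d i)) ⁻¹ᵁ W = _
    rw [top_jm]
  have hid : V ≤ 𝟙 (Ho H a).XT ⁻¹ᵁ V := le_rfl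
  refine pullSec_id_injective (Ho H a).E (𝟙 _) rfl hid ?_
  apply (ConcreteCategory.bijective_of_isIso ((κ H hsq ht ha0).app V)).1
  have key : ∀ (l : I) (r : a ⟶ d l) (hl : V ≤ (Hm H r ≫ leg H hsq d θ l).top ⁻¹ᵁ W),
      (κ H hsq ht ha0).app V (pullSec (𝟙 _) (Ho H a).E hid
          ((Ho H a).E.presheaf.map (homOfLE hl).op ((Hm H r ≫ leg H hsq d θ l).c.app W n))) =
        ((τ M (Hm H r).top (jm H hsq (d l)) t (top_jm H hsq r)).inv ≫
          (Scheme.Modules.pullback (Hm H r).top).map (θ l) ≫ κ H hsq ht (top_jm H hsq r)).app V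
            (pullSec t M hV n) := by
    intro l r hl
    have hl' : V ≤ (Hm H r).top ⁻¹ᵁ (jm H hsq (d l) ⁻¹ᵁ W) := hl
    show _ = (κ H hsq ht (top_jm H hsq r)).app V (((Scheme.Modules.pullback (Hm H r).top).map (θ l)).app V
      ((τ M (Hm H r).top (jm H hsq (d l)) t (top_jm H hsq r)).inv.app V (pullSec t M hV n)))
    rw [τ_inv_pullSec (Hm H r).top (jm H hsq (d l)) t (top_jm H hsq r) hl' le_rfl hV n, map_pullSec, κ_pullSec,
      κ_pullSec, ← usec_eq_pullSec, c_res, pullSec_res, ModSt.Obj.comp_c_app, leg_c_app]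
    have e : Hm H (gd H hsq ht ha0) ≫ Hm H r = Hm H (gd H hsq ht (top_jm H hsq r)) := by
      rw [← Hm_comp]
      refine congrArg (Hm H) (sieve_hom_ext ?_)
      show (𝟙 (Ho H a).XT ≫ bq H a) ≫ r.hom.left.left = (Hm H r).top ≫ bq H (d l)
      rw [Category.id_comp, top_bq]
    exact c_congr e (lpt H hsq ht) (W := jm H hsq (d l) ⁻¹ᵁ W) _ _ _
  rw [key i g h1, key j g' h2]
  exact congrArg (fun m => m.app V (pullSec t M hV n)) (hθ _ t i j _ _ _ _ ht)

/-- Families of flat finitely presented modules over a sieve generated by a covering family glue. -/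
theorem exists_cone {H : Stk.sieveCat R ⥤ᵇ ModSt.Coh f} (d : I → (Stk.sieveCat R).obj)
    (hd : Presieve.ofArrows (fun i => (d i).obj.left.left) (fun i => (d i).obj.hom.left) ∈
      Scheme.fpqcPrecoverage U.left)
    (hfac : ∀ a : (Stk.sieveCat R).obj, ∃ i, Nonempty (a ⟶ d i)) :
    ∃ (A : ModSt.Obj f) (h : A.base = U), ModSt.IsCohObj A ∧ Nonempty (OCone H A h) := by
  have hsq : IsPullback (pullback.fst f U.hom) (pullback.snd f U.hom) f U.hom := IsPullback.of_hasPullback _ _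
  have hjm := jm_mem H d hd hsq
  have hq : ∀ a, Coh.IsQCoh (Ho H a).E := fun a => QCoh.isQCoh_of_isFP (H.obj a).property.2
  obtain ⟨M, hM, ⟨e⟩⟩ := exists_descended (f := fun i => jm H hsq (d i)) hjm (datum H hsq d) fun i => hq (d i)
  let θ : ∀ i, (Scheme.Modules.pullback (jm H hsq (d i))).obj M ⟶ (Ho H (d i)).E := fun i => e.hom.hom i
  have hiso : ∀ i, IsIso (θ i) := fun i =>
    ⟨e.inv.hom i, congrArg (fun m => m.hom i) e.hom_inv_id, congrArg (fun m => m.hom i) e.inv_hom_id⟩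
  haveI := hiso
  have hθ : ∀ (Y : Scheme.{u}) (t : Y ⟶ _) (i j : I) (a : Y ⟶ (Ho H (d i)).XT) (b : Y ⟶ (Ho H (d j)).XT)
      (ha : a ≫ jm H hsq (d i) = t) (hb : b ≫ jm H hsq (d j) = t)
      (ht : R (ptHom (U := U) (q := pullback.snd f U.hom) t)),
      (τ M a (jm H hsq (d i)) t ha).inv ≫ (Scheme.Modules.pullback a).map (θ i) ≫ κ H hsq ht ha =
        (τ M b (jm H hsq (d j)) t hb).inv ≫ (Scheme.Modules.pullback b).map (θ j) ≫ κ H hsq ht hb := by
    intro Y t i j a b ha hb ht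
    have hc := hom_comm_tauFam (A := Ho H) (jm H hsq) d e.hom t a b ha hb
    rw [datum_hom H hsq d t a b ha hb ht, homAB, ← Category.assoc ((Scheme.Modules.pullback a).map (e.hom.hom i)),
      IsIso.comp_inv_eq] at hc
    simp only [θ]
    rw [hc]
    simp only [Category.assoc, Iso.inv_hom_id_assoc]
  have hfl : FlatMod.IsFlatOver (pullback.snd f U.hom) M := by
    intro x
    obtain ⟨i, y, hy⟩ : ∃ i, pullback.snd f U.hom x ∈ Set.range ((d i).obj.hom.left) := by
      obtain ⟨i, y, hy⟩ := ((Scheme.ofArrows_mem_precoverage_iff _).1 hd.2).1 (pullback.snd f U.hom x)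
      exact ⟨i, y, hy⟩
    haveI : Flat (d i).obj.hom.left := flat_of_mem (fun i => (d i).obj.hom.left) hd i
    refine FlatBC5.isFlatOverAt_of_faithful (isPullback_jm H hsq (d i)) hM x y hy.symm
      (Flat.stalkMap _ y) fun x' => ?_
    refine GrFlat5.isFlatOverAt_of_iso _ (θIso H hsq (θ i) (hiso i)).symm x' ?_
    exact isFlatOver_eqToHom (base_eq H (d i)) _ _ (H.obj (d i)).property.1 x'
  have hfp : CohB1.IsFP M := isFP_of_family _ hjm hM fun i =>
    isFP_of_iso' (θIso H hsq (θ i) (hiso i)).symm (H.obj (d i)).property.2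
  refine ⟨descObj hsq M, rfl, ⟨hfl, hfp⟩, ?_⟩
  choose ι g using hfac
  let gg : ∀ a, a ⟶ d (ι a) := fun a => (g a).some
  refine ⟨{ e := fun a => Hm H (gg a) ≫ leg H hsq d θ (ι a), base_e := fun a => ?_, nat := fun {a b} r => ?_ }⟩
  · show (Hm H (gg a)).base ≫ eqToHom (base_eq H (d (ι a))) ≫ (d (ι a)).obj.hom = _
    rw [← Category.assoc, Hm_base, Category.assoc, Over.w (gg a).hom, eqToHom_refl, Category.comp_id]
  · rw [← Category.assoc, ← Hm_comp]
    exact leg_indep H hsq d θ hθ _ _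

end Groth.Agent.ModStLib.Desc
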