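import Groth.Agent.ModStLib.Desc.Exist
import Groth.Agent.AlgStLib.StackCrit
import Groth.Agent.StkLib.Refine

/-!
# Flat finitely presented modules form an fppf stack
-/

universe u

set_option autoImplicit false
set_option backward.isDefEq.respectTransparency false
set_option backward.isDefEq.respectTransparency.types false
set_option linter.style.haveILetI false

open CategoryTheory CategoryTheory.Functor CategoryTheory.Limits AlgebraicGeometry TopologicalSpace Opposite

namespace Groth.Agent.ModStLib.Desc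

open Groth.Agent.AlgStLib

variable {X S : Scheme.{u}} {f : X ⟶ S} {U : Over S} {R : Sieve U}

/-- The underlying cone. -/
noncomputable def toOCone {H : Stk.sieveCat R ⥤ᵇ ModSt.Coh f} (c : SieveCone H) :
    OCone H c.pt.obj c.obj_pt where
  e a := (c.e a).hom
  base_e a := by
    haveI := c.lift a
    exact IsHomLift.fac' (ModSt.Coh f).p a.obj.hom (c.e a)
  nat g := congrArg (fun m => m.hom) (c.nat g)

/-- Cones over covering sieves are universal. -/
theorem isUniversal (hR : R ∈ QuotSh.J Scheme.fppfPrecoverage S U) {H : Stk.sieveCat R ⥤ᵇ ModSt.Coh f}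
    (c : SieveCone H) : c.IsUniversal := by
  intro c'
  obtain ⟨φ, ⟨hφ, hφe⟩, huniq⟩ := existsUnique_hom H (toOCone c) (toOCone c') hR
    (QCoh.isQCoh_of_isFP c.pt.property.2) (QCoh.isQCoh_of_isFP c'.pt.property.2)
    fun a => QCoh.isQCoh_of_isFP (H.obj a).property.2
  refine ⟨ObjectProperty.homMk φ, ⟨IsHomLift.of_fac' _ _ _ c.obj_pt c'.obj_pt ?_, fun a => ?_⟩, fun φ' hφ' => ?_⟩
  · show φ.base = _
    rw [hφ, Category.id_comp, eqToHom_trans]
  · exact ObjectProperty.hom_ext _ (hφe a)
  · haveI := hφ'.1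
    have e : φ'.hom.base = _ := IsHomLift.fac' (ModSt.Coh f).p (𝟙 U) φ'
    refine ObjectProperty.hom_ext _ (huniq φ'.hom ⟨?_, fun a => congrArg (fun m => m.hom) (hφ'.2 a)⟩)
    rw [e, Category.id_comp, eqToHom_trans]

/-- The category of flat finitely presented modules is a stack. -/
theorem isStack_coh (f : X ⟶ S) : Stk.IsStack (QuotSh.J Scheme.fppfPrecoverage S) (ModSt.Coh f) := by
  refine ⟨isFibGrpd_coh, fun U R hR => ?_⟩
  obtain ⟨V, φ, hφ, hp, hs⟩ := AlgSpDec.SubCover.exists_flat_lfp_family (T := U) (R := R) hR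
  have hmem : Presieve.ofArrows (fun i => (V i).left) (fun i => (φ i).left) ∈ Scheme.fppfPrecoverage U.left := by
    rw [Scheme.fppfPrecoverage, Scheme.ofArrows_mem_precoverage_iff]
    exact ⟨fun x => ⟨x, hs x⟩, hp⟩
  have hS : Sieve.ofArrows V φ ∈ QuotSh.J Scheme.fppfPrecoverage S U := by
    show Sieve.overEquiv U (Sieve.ofArrows V φ) ∈ Scheme.fppfPrecoverage.toGrothendieck U.left
    rw [Sieve.overEquiv_ofArrows]
    exact Precoverage.generate_mem_toGrothendieck hmem
  have hle : Sieve.ofArrows V φ ≤ R := by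
    rw [Sieve.ofArrows, Sieve.generate_le_iff]
    rintro W g ⟨i⟩
    exact hφ i
  refine StkLib.isStackFor_of_le isFibGrpd_coh hle ?_ fun W g _ => isPrestackFor_of_universal isFibGrpd_coh
    fun c => isUniversal ((QuotSh.J Scheme.fppfPrecoverage S).pullback_stable g hS) c
  refine isStackFor_of_cones isFibGrpd_coh (fun c => isUniversal hS c) fun H => ?_
  let d : U.left → (Stk.sieveCat (Sieve.ofArrows V φ)).obj := fun i =>
    ⟨Over.mk (φ i), Sieve.ofArrows_mk V φ i⟩
  obtain ⟨A, h, hA, ⟨C⟩⟩ := exists_cone (H := H) d (Scheme.fppfPrecoverage_le_fpqcPrecoverage _ hmem) fun a => by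
    obtain ⟨W, k, g, ⟨i⟩, hk⟩ := a.property
    exact ⟨i, ⟨ObjectProperty.homMk (Over.homMk k hk)⟩⟩
  exact ⟨{ pt := ⟨A, hA⟩
           obj_pt := h
           e := fun a => ObjectProperty.homMk (C.e a)
           lift := fun a => IsHomLift.of_fac' _ _ _ (base_eq H a) h (C.base_e a)
           nat := fun g => ObjectProperty.hom_ext _ (C.nat g) }⟩

end Groth.Agent.ModStLib.Desc
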