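import Groth.Agent.ModStLib.Desc.Cover

/-!
# Universality of cones of flat finitely presented modules
-/

universe u

set_option autoImplicit false
set_option backward.isDefEq.respectTransparency false
set_option backward.isDefEq.respectTransparency.types false
set_option linter.style.haveILetI false

open CategoryTheory CategoryTheory.Functor CategoryTheory.Limits AlgebraicGeometry TopologicalSpace Opposite

namespace Groth.Agent.ModStLib.Desc

open Groth.Agent.EtLC12.AssocUnit Groth.Agent.QCoh Groth.Agent.FpqcMod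

variable {X S : Scheme.{u}} {f : X ⟶ S} {P : ModSt.Obj f → Prop} {U : Over S} {R : Sieve U}
  (H : Stk.sieveCat R ⥤ᵇ AlgSt.fullSub (ModSt.Fam f) P)

/-- A cone on a family of modules, in terms of the underlying morphisms. -/
structure OCone (A : ModSt.Obj f) (h : A.base = U) where
  /-- The legs. -/
  e : ∀ a, Ho H a ⟶ A
  base_e : ∀ a, (e a).base = eqToHom (base_eq H a) ≫ a.obj.hom ≫ eqToHom h.symm
  nat : ∀ {a b : (Stk.sieveCat R).obj} (g : a ⟶ b), Hm H g ≫ e b = e a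

/-- The square of the point of a cone over the base of the sieve. -/
theorem cone_sq (A : ModSt.Obj f) (h : A.base = U) : IsPullback A.p (A.q ≫ (eqToHom h).left) f U.hom := by
  subst h
  simpa using A.isPullback

section

variable {H} {A : ModSt.Obj f} {h : A.base = U} (C : OCone H A h)

lemma OCone.top_jm' (a : (Stk.sieveCat R).obj) : (C.e a).top = jm H (cone_sq A h) a := by
  refine (cone_sq A h).hom_ext ?_ ?_
  · rw [jm_p, (C.e a).w_p]
  · rw [jm_q, ← Category.assoc, (C.e a).w_q, bq, Category.assoc, Category.assoc, ← Over.comp_left, ← Over.comp_left,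
      C.base_e, Category.assoc, Category.assoc, eqToHom_trans, eqToHom_refl, Category.comp_id]

/-- The comparison along a leg. -/
noncomputable def OCone.θ (a : (Stk.sieveCat R).obj) :
    (Scheme.Modules.pullback (jm H (cone_sq A h) a)).obj A.E ⟶ (Ho H a).E :=
  adjC _ ((C.e a).c ≫ (Scheme.Modules.pushforwardCongr (C.top_jm' a)).hom.app (Ho H a).E)

lemma adjC_congr_pullSec {Y Z : Scheme.{u}} {t t' : Y ⟶ Z} (e : t = t') {N : Z.Modules} {M : Y.Modules}
    (c : N ⟶ (Scheme.Modules.pushforward t).obj M) {O : Z.Opens} {V : Y.Opens} (hle : V ≤ t' ⁻¹ᵁ O)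
    (hle' : V ≤ t ⁻¹ᵁ O) (z : Γ(N, O)) :
    (adjC t' (c ≫ (Scheme.Modules.pushforwardCongr e).hom.app M)).app V (pullSec t' N hle z) =
      M.presheaf.map (homOfLE hle').op (c.app O z) := by
  subst e
  rw [adjC_pullSec]
  simp

lemma OCone.θ_pullSec (a : (Stk.sieveCat R).obj) {O : A.XT.Opens} {V : (Ho H a).XT.Opens}
    (hle : V ≤ jm H (cone_sq A h) a ⁻¹ᵁ O) (hle' : V ≤ (C.e a).top ⁻¹ᵁ O) (z : Γ(A.E, O)) :
    (C.θ a).app V (pullSec _ A.E hle z) = (Ho H a).E.presheaf.map (homOfLE hle').op ((C.e a).c.app O z) :=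
  adjC_congr_pullSec _ _ hle hle' z

theorem OCone.isIso_θ (a : (Stk.sieveCat R).obj) : IsIso (C.θ a) :=
  isIso_adjC _ ((C.e a).cart.congr (C.top_jm' a))

lemma OCone.θ_nat {a b : (Stk.sieveCat R).obj} (g : a ⟶ b) :
    (τ A.E (Hm H g).top (jm H (cone_sq A h) b) (jm H (cone_sq A h) a) (top_jm H (cone_sq A h) g)).inv ≫
      (Scheme.Modules.pullback (Hm H g).top).map (C.θ b) ≫ adjC _ (Hm H g).c = C.θ a := by
  refine hom_ext_usec _ fun O z => ?_
  rw [usec_eq_pullSec]
  have hV : jm H (cone_sq A h) a ⁻¹ᵁ O ≤ (Hm H g).top ⁻¹ᵁ (jm H (cone_sq A h) b ⁻¹ᵁ O) := by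
    rw [← Scheme.Hom.comp_preimage, top_jm]
  simp only [Scheme.Modules.Hom.comp_app, CategoryTheory.comp_apply]
  rw [τ_inv_pullSec (Hm H g).top _ _ (top_jm H (cone_sq A h) g) hV (le_refl (jm H (cone_sq A h) b ⁻¹ᵁ O))
    (le_refl (jm H (cone_sq A h) a ⁻¹ᵁ O)) z, map_pullSec, adjC_pullSec,
    C.θ_pullSec b le_rfl (by rw [C.top_jm']) z, C.θ_pullSec a le_rfl (by rw [C.top_jm']) z]
  refine (comp_c_res (Hm H g) (C.e b) _ hV ?_ z).trans (c_congr_res (C.nat g) _ _ z)
  show _ ≤ ((Hm H g).top ≫ (C.e b).top) ⁻¹ᵁ O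
  rw [C.top_jm', top_jm]

/-- The comparisons of a cone. -/
noncomputable def OCone.coc : Coc H (cone_sq A h) A.E where
  θ := C.θ
  isIso := C.isIso_θ
  nat g := C.θ_nat g

variable {A' : ModSt.Obj f} {h' : A'.base = U} (C' : OCone H A' h')

/-- The morphism of total spaces between the points of two cones. -/
noncomputable def coneTop (A A' : ModSt.Obj f) (h : A.base = U) (h' : A'.base = U) : A.XT ⟶ A'.XT :=
  A'.isPullback.lift A.p (A.q ≫ (eqToHom (h.trans h'.symm)).left) (by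
    rw [Category.assoc, Over.w (eqToHom (h.trans h'.symm))]
    exact A.isPullback.w)

lemma jm_coneTop (a : (Stk.sieveCat R).obj) : jm H (cone_sq A h) a ≫ coneTop A A' h h' = (C'.e a).top := by
  refine A'.isPullback.hom_ext ?_ ?_
  · rw [coneTop, Category.assoc, IsPullback.lift_fst, jm_p, (C'.e a).w_p]
  · have e : eqToHom (h.trans h'.symm) = eqToHom h ≫ eqToHom h'.symm := (eqToHom_trans _ _).symm
    rw [coneTop, Category.assoc, IsPullback.lift_snd, e, Over.comp_left, ← Category.assoc A.q, ← Category.assoc,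
      jm_q, (C'.e a).w_q, C'.base_e]
    simp [bq]

/-- The comparison along a leg with the pulled back module. -/
noncomputable def OCone.θ' (a : (Stk.sieveCat R).obj) :
    (Scheme.Modules.pullback (jm H (cone_sq A h) a)).obj ((Scheme.Modules.pullback (coneTop A A' h h')).obj A'.E) ⟶
      (Ho H a).E :=
  (τ A'.E _ _ _ (jm_coneTop (h := h) C' a)).hom ≫ adjC _ (C'.e a).c

lemma OCone.θ'_pullSec (a : (Stk.sieveCat R).obj) {O : A'.XT.Opens} {W : A.XT.Opens}
    {V : (Ho H a).XT.Opens} (hV : V ≤ jm H (cone_sq A h) a ⁻¹ᵁ W) (hW : W ≤ coneTop A A' h h' ⁻¹ᵁ O)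
    (hle : V ≤ (C'.e a).top ⁻¹ᵁ O) (z : Γ(A'.E, O)) :
    (C'.θ' (h := h) a).app V (pullSec _ _ hV (pullSec _ A'.E hW z)) =
      (Ho H a).E.presheaf.map (homOfLE hle).op ((C'.e a).c.app O z) := by
  have hT := T_pullSec A'.E _ _ _ (jm_coneTop (h := h) C' a) hV hW z
  rw [T] at hT
  simp only [OCone.θ', Scheme.Modules.Hom.comp_app, CategoryTheory.comp_apply]
  rw [hT, adjC_pullSec]

theorem OCone.isIso_θ' (a : (Stk.sieveCat R).obj) : IsIso (C'.θ' (A := A) (h := h) a) := by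
  haveI := isIso_adjC _ (C'.e a).cart
  unfold OCone.θ'
  infer_instance

lemma OCone.θ'_nat {a b : (Stk.sieveCat R).obj} (g : a ⟶ b) :
    (τ ((Scheme.Modules.pullback (coneTop A A' h h')).obj A'.E) (Hm H g).top (jm H (cone_sq A h) b)
        (jm H (cone_sq A h) a) (top_jm H (cone_sq A h) g)).inv ≫
      (Scheme.Modules.pullback (Hm H g).top).map (C'.θ' b) ≫ adjC _ (Hm H g).c = C'.θ' a := by
  rw [← cancel_epi (τ A'.E _ _ _ (jm_coneTop (h := h) C' a)).inv]
  refine hom_ext_usec _ fun O z => ?_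
  rw [usec_eq_pullSec]
  have hWb : (jm H (cone_sq A h) b) ⁻¹ᵁ ((coneTop A A' h h') ⁻¹ᵁ O) ≤ (C'.e b).top ⁻¹ᵁ O := by
    rw [← Scheme.Hom.comp_preimage, jm_coneTop C' b]
  have hWa : (C'.e a).top ⁻¹ᵁ O ≤ (jm H (cone_sq A h) a) ⁻¹ᵁ ((coneTop A A' h h') ⁻¹ᵁ O) := by
    rw [← Scheme.Hom.comp_preimage, jm_coneTop C' a]
  have hV : (C'.e a).top ⁻¹ᵁ O ≤ (Hm H g).top ⁻¹ᵁ ((jm H (cone_sq A h) b) ⁻¹ᵁ ((coneTop A A' h h') ⁻¹ᵁ O)) := by
    rw [← Scheme.Hom.comp_preimage, top_jm]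
    exact hWa
  simp only [Scheme.Modules.Hom.comp_app, CategoryTheory.comp_apply]
  rw [τ_inv_pullSec ((jm H (cone_sq A h) a)) (coneTop A A' h h') _ (jm_coneTop (h := h) C' a) hWa
      (le_refl ((coneTop A A' h h') ⁻¹ᵁ O)) (le_refl ((C'.e a).top ⁻¹ᵁ O)) z,
    τ_inv_pullSec (Hm H g).top ((jm H (cone_sq A h) b)) ((jm H (cone_sq A h) a)) (top_jm H (cone_sq A h) g) hV le_rfl hWa, map_pullSec, adjC_pullSec,
    C'.θ'_pullSec b le_rfl le_rfl hWb, C'.θ'_pullSec a hWa le_rfl le_rfl]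
  refine (comp_c_res (Hm H g) (C'.e b) hWb hV ?_ z).trans (c_congr_res (C'.nat g) _ _ z)
  rw [C'.nat g]

/-- The comparisons of the pulled back module. -/
noncomputable def OCone.coc' : Coc H (cone_sq A h) ((Scheme.Modules.pullback (coneTop A A' h h')).obj A'.E) where
  θ := C'.θ'
  isIso := C'.isIso_θ'
  nat g := C'.θ'_nat g

end

/-- Two cones are connected by exactly one morphism. -/
theorem existsUnique_hom {A A' : ModSt.Obj f} {h : A.base = U} {h' : A'.base = U} (C : OCone H A h) (C' : OCone H A' h')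
    (hR : R ∈ QuotSh.J Scheme.fppfPrecoverage S U) (hA : Coh.IsQCoh A.E) (hA' : Coh.IsQCoh A'.E)
    (hH : ∀ a, Coh.IsQCoh (Ho H a).E) :
    ∃! φ : A ⟶ A', φ.base = eqToHom (h.trans h'.symm) ∧ ∀ a, C.e a ≫ φ = C'.e a := by
  obtain ⟨V, v, hv, hmem⟩ := exists_family hR
  let d : U.left → (Stk.sieveCat R).obj := fun i => ⟨Over.mk (v i), hv i⟩
  have hsq := cone_sq A h
  let t := coneTop A A' h h'
  let M' := (Scheme.Modules.pullback t).obj A'.E
  have hjm := jm_mem H d hmem hsq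
  obtain ⟨ψ, hψ⟩ := map_surjective M' (fun i => jm H (cone_sq A h) (d i)) hjm A.E hA
    (((C'.coc' (A := A) (h := h)).iso H (cone_sq A h) d).hom ≫ (C.coc.iso H (cone_sq A h) d).inv)
  have hψi : ∀ i, (Scheme.Modules.pullback (jm H (cone_sq A h) (d i))).map ψ ≫ C.θ (d i) = C'.θ' (d i) := by
    intro i
    have := congrArg (fun m => m ≫ (C.coc.iso H (cone_sq A h) d).hom) hψ
    simp only [Category.assoc, Iso.inv_hom_id, Category.comp_id] at this
    exact congrArg (fun m => m.hom i) this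
  haveI : IsIso ψ := isIso_of_family _ hjm (QCoh.isQCoh_pullback t hA') hA ψ fun i => by
    haveI := C.isIso_θ (d i)
    haveI := C'.isIso_θ' (A := A) (h := h) (d i)
    rw [(IsIso.eq_comp_inv (C.θ (d i))).2 (hψi i)]
    infer_instance
  let φ : A ⟶ A' := ⟨eqToHom (h.trans h'.symm), t, IsPullback.lift_fst _ _ _ _, IsPullback.lift_snd _ _ _ _,
    (Scheme.Modules.pullbackPushforwardAdjunction t).homEquiv _ _ ψ, isCart_homEquiv t ψ⟩
  have hb : ∀ a, (C.e a ≫ φ).base = (C'.e a).base := fun a => by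
    show (C.e a).base ≫ eqToHom (h.trans h'.symm) = _
    rw [C.base_e, C'.base_e, Category.assoc, Category.assoc, eqToHom_trans]
  have hd : ∀ i, C.e (d i) ≫ φ = C'.e (d i) := fun i => by
    refine hom_ext_sec (hb _) fun W n O h1 h2 => ?_
    have hO : O ≤ jm H (cone_sq A h) (d i) ⁻¹ᵁ (t ⁻¹ᵁ W) := by
      rw [← C.top_jm']
      exact h1
    rw [← C'.θ'_pullSec (d i) hO le_rfl h2 n, ← hψi i]
    show _ = (C.θ (d i)).app O (((Scheme.Modules.pullback (jm H (cone_sq A h) (d i))).map ψ).app O (pullSec _ _ hO _))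
    rw [map_pullSec, C.θ_pullSec (d i) hO h1, ← usec_eq_pullSec, ModSt.Obj.comp_c_app]
    refine congrArg (fun z => (Ho H (d i)).E.presheaf.map (homOfLE h1).op ((C.e (d i)).c.app (t ⁻¹ᵁ W) z)) ?_
    show ((Scheme.Modules.pullbackPushforwardAdjunction t).homEquiv _ _ ψ).app W n = _
    rw [Adjunction.homEquiv_unit]
    rfl
  refine ⟨φ, ⟨rfl, fun a => ?_⟩, fun φ' hφ' => ?_⟩
  · obtain ⟨b, k, g, hk⟩ := exists_refinement H d hmem hsq a
    refine hom_ext_cover (hH a) (fun i => Ho H (b i)) (fun i => Hm H (k i)) hk (hb a) fun i => ?_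
    rw [← Category.assoc, C.nat, C'.nat, ← C.nat (g i), Category.assoc, hd, C'.nat]
  · refine hom_ext_cover hA (fun i => Ho H (d i)) (fun i => C.e (d i)) ?_ hφ'.1 fun i =>
      (hφ'.2 (d i)).trans (hd i).symm
    simp only [C.top_jm']
    exact hjm

end Groth.Agent.ModStLib.Desc
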